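import Cfsg.Agent.Lib.Helper31.BG1435.Defs
import Cfsg.Agent.Lib.Helper98.FW.Main

/-!
Pure group theory for S1435: the Frobenius action lemma and `[[E,K],K] = 1 ⇒ [E,K] = 1`.
-/

set_option autoImplicit false

namespace Cfsg.Agent.Lib.Helper31.BG1435

open Subgroup Cfsg.Agent.Lib.Helper30
open scoped commutatorElement

universe u

variable {G : Type u} [Group G] [Finite G]

/-- FROB. -/
theorem frob {U E H : Subgroup G} (hEU : E ≤ normalizer (U : Set G)) (hnil : Group.IsNilpotent U)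
    (hfpf : U ⊓ centralizer (E : Set G) = ⊥) (hE : (Nat.card E).Prime)
    (hUH : U ≤ normalizer (H : Set G)) (hEH : E ≤ normalizer (H : Set G))
    (hsolv : Group.IsSolvable H) (hcop : (Nat.card H).Coprime (Nat.card ↥(U ⊔ E)))
    (hC : H ⊓ centralizer (E : Set G) = ⊥) : H ≤ centralizer (U : Set G) := by
  have : Fact (Nat.card E).Prime := ⟨hE⟩
  have hf : ∀ e ∈ E, e ≠ 1 → ∀ u ∈ U, e * u = u * e → u = 1 := by
    intro e he he1 u hu hcomm
    have hmem : u ∈ U ⊓ centralizer (E : Set G) := by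
      refine mem_inf.mpr ⟨hu, ?_⟩
      rw [mem_centralizer_iff]
      intro a ha
      have h1 : (⟨a, ha⟩ : E) ∈ zpowers (⟨e, he⟩ : E) :=
        mem_zpowers_of_prime_card rfl (by intro h; exact he1 (congrArg Subtype.val h))
      obtain ⟨k, hk⟩ := h1
      have h2 : e ^ k = a := congrArg Subtype.val hk
      rw [← h2]
      exact ((Commute.zpow_left (show Commute e u from hcomm) k)).eq
    rw [hfpf, mem_bot] at hmem
    exact hmem
  have hfw := Cfsg.Agent.Lib.Helper98.FW.fw_formula U E hEU hnil hf H (sup_le hUH hEH) hsolv hcop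
  have h1 : H ⊓ centralizer ((U ⊔ E : Subgroup G) : Set G) = ⊥ := by
    rw [eq_bot_iff, ← hC]
    exact inf_le_inf_left _ (centralizer_le (le_sup_right : E ≤ U ⊔ E))
  rw [h1, hC] at hfw
  simp only [card_bot, one_pow, one_mul] at hfw
  have h3 : H ⊓ centralizer (U : Set G) = H := eq_of_le_of_card_ge inf_le_left hfw.le
  rw [← h3]
  exact inf_le_right

/-- CC. -/
theorem le_centralizer_of_comm_comm {E K V : Subgroup G} {p : ℕ} (hK : Nat.card K = p)
    (hV : ⁅E, K⁆ ≤ V) (hpV : ¬ p ∣ Nat.card V) (hp : p.Prime)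
    (h : ⁅⁅E, K⁆, K⁆ = ⊥) : E ≤ centralizer (K : Set G) := by
  intro e he
  rw [mem_centralizer_iff]
  intro k hk
  have hc : ⁅e, k⁆ ∈ ⁅E, K⁆ := commutator_mem_commutator he hk
  have hck : Commute ⁅e, k⁆ k := by
    have h1 := (commutator_eq_bot_iff_le_centralizer.mp h) hc
    rw [mem_centralizer_iff] at h1
    exact (h1 k hk).symm
  have hkp : k ^ p = 1 := by
    have := pow_card_eq_one' (G := K) (x := ⟨k, hk⟩)
    rw [hK] at this
    exact congrArg Subtype.val this
  have e1 : e * k * e⁻¹ = ⁅e, k⁆ * k := by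
    rw [commutatorElement_def]; group
  have e2 : (e * k * e⁻¹) ^ p = 1 := by
    rw [conj_pow, hkp]; group
  rw [e1, hck.mul_pow, hkp, mul_one] at e2
  have h3 : orderOf ⁅e, k⁆ ∣ p := orderOf_dvd_of_pow_eq_one e2
  have h4 : orderOf ⁅e, k⁆ ∣ Nat.card V := by
    have := orderOf_dvd_natCard (⟨⁅e, k⁆, hV hc⟩ : V)
    rwa [Subgroup.orderOf_mk] at this
  have h5 : ⁅e, k⁆ = 1 := by
    rcases (Nat.dvd_prime hp).mp h3 with h | h
    · exact orderOf_eq_one_iff.mp h
    · exact absurd (h ▸ h4) hpV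
  rw [commutatorElement_eq_one_iff_mul_comm] at h5
  exact h5.symm

end Cfsg.Agent.Lib.Helper31.BG1435
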