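import Cfsg.Agent.Lib.Helper31.BG1435.Defs
import Cfsg.Agent.Lib.Helper27.BG14a

set_option autoImplicit false
set_option linter.unusedVariables false

/-! Ladder BG1435, rung BASIC. -/

namespace Cfsg.Agent.Lib.Helper31.BG1435

open Subgroup Cfsg.Agent.Lib.Helper30

universe u

variable {G : Type u} [Group G] [Finite G]

variable {M K U Ms H : Subgroup G} {p : ℕ}

theorem Facts.p_not_sigma (F : Facts M K U Ms H p) : p ∉ Cfsg.sigma H :=
  fun h => F.hσMs p h F.hpMs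

theorem Facts.K_inf (hG : Cfsg.IsMinSimpleOddOrder G) (F : Facts M K U Ms H p) :
    K ⊓ Cfsg.sigmaCore H = ⊥ := by
  apply inf_eq_bot_of_coprime
  rw [F.hKp, Nat.Prime.coprime_iff_not_dvd F.hp]
  intro h
  exact F.p_not_sigma ((Cfsg.Agent.Lib.Helper28.BG12.sigmaCore_hall hG F.hH).2.1 p F.hp h)

theorem Facts.inf_M (hG : Cfsg.IsMinSimpleOddOrder G) (F : Facts M K U Ms H p) :
    Cfsg.sigmaCore H ⊓ Cfsg.sigmaCore M = ⊥ := by
  apply inf_eq_bot_of_coprime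
  apply Nat.coprime_of_dvd
  intro k hk h1 h2
  exact F.hσM k ((Cfsg.Agent.Lib.Helper28.BG12.sigmaCore_hall hG F.hH).2.1 k hk h1)
    ((Cfsg.Agent.Lib.Helper28.BG12.sigmaCore_hall hG F.hM).2.1 k hk h2)

theorem Facts.inf_Ms (hG : Cfsg.IsMinSimpleOddOrder G) (F : Facts M K U Ms H p) :
    Cfsg.sigmaCore H ⊓ Cfsg.sigmaCore Ms = ⊥ := by
  apply inf_eq_bot_of_coprime
  apply Nat.coprime_of_dvd
  intro k hk h1 h2
  exact F.hσMs k ((Cfsg.Agent.Lib.Helper28.BG12.sigmaCore_hall hG F.hH).2.1 k hk h1)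
    ((Cfsg.Agent.Lib.Helper28.BG12.sigmaCore_hall hG F.hMs).2.1 k hk h2)

theorem Facts.D_le (hG : Cfsg.IsMinSimpleOddOrder G) (F : Facts M K U Ms H p) :
    Cfsg.sigmaCore H ⊓ Ms ≤ centralizer (K : Set G) := by
  intro d hd
  rw [mem_centralizer_iff]
  intro k hk
  have hk' : k ∈ K := hk
  have h1 : d * k * d⁻¹ * k⁻¹ ∈ Cfsg.sigmaCore H := by
    have h2 : k * d⁻¹ * k⁻¹ ∈ Cfsg.sigmaCore H :=
      (mem_normalizer_iff.mp (Cfsg.Agent.Lib.Helper28.BG12.le_normalizer_sigmaCore H (F.hKH hk'))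
        _).mp (inv_mem hd.1)
    have := mul_mem hd.1 h2
    rwa [← mul_assoc, ← mul_assoc] at this
  have h2 : d * k * d⁻¹ * k⁻¹ ∈ Cfsg.sigmaCore Ms := by
    have h3 : d * k * d⁻¹ ∈ Cfsg.sigmaCore Ms :=
      (mem_normalizer_iff.mp (Cfsg.Agent.Lib.Helper28.BG12.le_normalizer_sigmaCore Ms hd.2)
        _).mp (F.hKMs hk')
    exact mul_mem h3 (inv_mem (F.hKMs hk'))
  have h3 : d * k * d⁻¹ * k⁻¹ ∈ Cfsg.sigmaCore H ⊓ Cfsg.sigmaCore Ms := mem_inf.mpr ⟨h1, h2⟩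
  rw [F.inf_Ms hG, mem_bot] at h3
  calc k * d = (d * k * d⁻¹ * k⁻¹)⁻¹ * (d * k) := by group
    _ = d * k := by rw [h3, inv_one, one_mul]

theorem Facts.basic_exists_gen (F : Facts M K U Ms H p) :
    ∃ x ∈ K, orderOf x = p ∧ x ≠ 1 ∧ K = zpowers x := by
  have hK1 : K ≠ ⊥ := by
    intro h
    have := F.hKp
    rw [h, card_bot] at this
    exact F.hp.one_lt.ne this
  obtain ⟨⟨x, hx⟩, hx1⟩ := Subgroup.ne_bot_iff_exists_ne_one.mp hK1
  have hx1' : x ≠ 1 := fun h => hx1 (Subtype.ext h)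
  have ho : orderOf x = p := by
    have h1 : orderOf x ∣ p := F.hKp ▸ Subgroup.orderOf_dvd_natCard K hx
    rcases (Nat.dvd_prime F.hp).mp h1 with h | h
    · exact absurd (orderOf_eq_one_iff.mp h) hx1'
    · exact h
  refine ⟨x, hx, ho, hx1', ?_⟩
  symm
  apply Subgroup.eq_of_le_of_card_ge (zpowers_le.mpr hx)
  rw [Nat.card_zpowers, ho, F.hKp]

theorem Facts.cent_bot (hG : Cfsg.IsMinSimpleOddOrder G) (F : Facts M K U Ms H p)
    (h1 : Cfsg.PRankLE p 1 H) : Cfsg.sigmaCore H ⊓ centralizer (K : Set G) = ⊥ := by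
  by_contra hne
  obtain ⟨⟨y, hy⟩, hy1⟩ := Subgroup.ne_bot_iff_exists_ne_one.mp hne
  obtain ⟨x, hx, ho, -, -⟩ := F.basic_exists_gen
  have : Fact p.Prime := ⟨F.hp⟩
  have hk : p ∈ Cfsg.kappa H := Cfsg.Agent.Lib.Helper28.BG12.mem_kappa_of hG F.p_not_sigma h1
    (F.hKH hx) ho hy.1 (fun h => hy1 (Subtype.ext h)) (mem_centralizer_iff.mp hy.2 x hx)
  rw [F.hκ] at hk
  exact hk

theorem Facts.nilp_of_rank_one (hG : Cfsg.IsMinSimpleOddOrder G) (F : Facts M K U Ms H p)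
    (h1 : Cfsg.PRankLE p 1 H) : Group.IsNilpotent (Cfsg.sigmaCore H) := by
  obtain ⟨x, hx, ho, -, hKx⟩ := F.basic_exists_gen
  have hc := F.cent_bot hG h1
  have h2 : Group.IsNilpotent (Cfsg.piCore (Cfsg.sigma H) H) := by
    apply Cfsg.Agent.Lib.Helper27.BG14.nilpotent_of_regular_elt (Cfsg.piCore (Cfsg.sigma H) H) F.hp
      (⟨x, F.hKH hx⟩ : H)
    · apply Subtype.ext
      show x ^ p = 1
      rw [← ho, pow_orderOf_eq_one]
    · intro y hy hxy
      have hxy' : x * (y : G) = (y : G) * x := congrArg Subtype.val hxy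
      have hyS : (y : G) ∈ Cfsg.sigmaCore H := ⟨y, hy, rfl⟩
      have hyC : (y : G) ∈ centralizer (K : Set G) := by
        rw [hKx, mem_centralizer_iff]
        intro k hk
        obtain ⟨i, rfl⟩ := mem_zpowers_iff.mp hk
        exact (Commute.zpow_left (show Commute x (y : G) from hxy') i).eq
      have : (y : G) ∈ Cfsg.sigmaCore H ⊓ centralizer (K : Set G) := mem_inf.mpr ⟨hyS, hyC⟩
      rw [hc, mem_bot] at this
      exact Subtype.ext this
  exact Group.nilpotent_of_mulEquiv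
    ((Cfsg.piCore (Cfsg.sigma H) H).equivMapOfInjective H.subtype H.subtype_injective)

end Cfsg.Agent.Lib.Helper31.BG1435
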