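import Cfsg.Agent.Lib.Helper31.BG1435.Defs
import Cfsg.Agent.Lib.Helper31.BG1435.BASIC

set_option autoImplicit false
set_option linter.unusedVariables false

/-! Ladder BG1435, rung CB. -/

namespace Cfsg.Agent.Lib.Helper31.BG1435

open Subgroup Cfsg.Agent.Lib.Helper30

universe u

variable {G : Type u} [Group G] [Finite G]

variable {M K U Ms H : Subgroup G} {p : ℕ}

theorem claim_b (hG : Cfsg.IsMinSimpleOddOrder G) (F : Facts M K U Ms H p)
    (hmain : ∀ E : Subgroup G, Cfsg.IsComplIn E (Cfsg.sigmaCore H) H → K ≤ E → MainB K Ms E p) :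
    U ≤ Cfsg.sigmaCore H := by
  have hpp : Fact p.Prime := ⟨F.hp⟩
  have key : ∀ s : ℕ, s.Prime → s ∣ Nat.card U → s ∈ Cfsg.sigma H := by
    intro s hs hsU
    by_contra hsσ
    have hss : Fact s.Prime := ⟨hs⟩
    have hsp : s ≠ p := by
      rintro rfl
      exact F.hpU hsU
    have hUtop : U ≠ ⊤ := fun h => F.hH.1 (top_le_iff.mp (h ▸ F.hUH))
    obtain ⟨Rs, hRs, hKRs⟩ := exists_invariant_isSylowIn (A := K) (K := U) F.D.normal
      (by rw [F.hKp, Nat.Prime.coprime_iff_not_dvd F.hp]; exact F.hpU)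
      (Or.inr (solvable_of_ne_top hG hUtop)) s
    have hRs1 : Rs ≠ ⊥ := by
      rintro rfl
      apply hRs.not_dvd
      rwa [relIndex_bot_left]
    have hle : Rs ⊔ K ≤ H := sup_le (hRs.le.trans F.hUH) F.hKH
    obtain ⟨E, hE, hRKE⟩ := Cfsg.Agent.Lib.Helper28.BG12.exists_compl_ge hG F.hH hle (by
      intro q hq hqd
      rcases Cfsg.Agent.Lib.Helper28.BG12.prime_dvd_card_sup hKRs hq hqd with h | h
      · rw [Cfsg.Agent.Lib.Helper28.BG12.prime_dvd_card_isPGroup hRs.isPGroup hq h]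
        exact hsσ
      · rw [F.hKp] at h
        rw [(Nat.prime_dvd_prime_iff_eq hq F.hp).mp h]
        exact F.p_not_sigma)
    obtain ⟨B, hBp, hKB, hBE, hEN, -⟩ := hmain E hE (le_sup_right.trans hRKE)
    have hinf : Rs ⊓ B = ⊥ := by
      apply (disjoint_of_coprime_natCard ?_).eq_bot
      obtain ⟨a, ha⟩ := IsPGroup.iff_card.mp hRs.isPGroup
      obtain ⟨b, hb⟩ := IsPGroup.iff_card.mp hBp
      rw [ha, hb]
      exact Nat.Coprime.pow _ _ ((Nat.coprime_primes hs F.hp).mpr hsp)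
    obtain ⟨k, hk, -, hk1, -⟩ := F.basic_exists_gen
    apply hRs1
    rw [eq_bot_iff, ← F.hreg k hk hk1]
    intro r hr
    refine mem_inf.mpr ⟨hRs.le hr, ?_⟩
    rw [mem_centralizer_singleton_iff]
    have h1 : r * k * r⁻¹ * k⁻¹ ∈ Rs := by
      have h2 : k * r⁻¹ * k⁻¹ ∈ Rs := (mem_normalizer_iff.mp (hKRs hk) _).mp (inv_mem hr)
      have := mul_mem hr h2
      rwa [← mul_assoc, ← mul_assoc] at this
    have h2 : r * k * r⁻¹ * k⁻¹ ∈ B := by
      have h3 : r * k * r⁻¹ ∈ B :=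
        (mem_normalizer_iff.mp (hEN (hRKE (mem_sup_left hr))) _).mp (hKB hk)
      exact mul_mem h3 (inv_mem (hKB hk))
    have h3 : r * k * r⁻¹ * k⁻¹ ∈ Rs ⊓ B := mem_inf.mpr ⟨h1, h2⟩
    rw [hinf, mem_bot] at h3
    calc r * k = (r * k * r⁻¹ * k⁻¹) * (k * r) := by group
      _ = k * r := by rw [h3, one_mul]
  intro u hu
  apply Cfsg.Agent.Lib.Helper24.BG14.mem_sigmaCore_of_order hG F.hH (F.hUH hu)
  intro q hq hqd
  exact key q hq (hqd.trans (Subgroup.orderOf_dvd_natCard U hu))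

end Cfsg.Agent.Lib.Helper31.BG1435
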