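import Cfsg.Agent.Lib.Helper31.BG1435.Defs
import Cfsg.Agent.Lib.Helper31.BG1435.BASIC

set_option autoImplicit false
set_option linter.unusedVariables false

/-! Ladder BG1435, rung CC. -/

namespace Cfsg.Agent.Lib.Helper31.BG1435

open Subgroup Cfsg.Agent.Lib.Helper30

universe u

variable {G : Type u} [Group G] [Finite G]

variable {M K U Ms H : Subgroup G} {p : ℕ}

theorem claim_c (hG : Cfsg.IsMinSimpleOddOrder G) (F : Facts M K U Ms H p)
    (hb : U ≤ Cfsg.sigmaCore H) : M ⊓ H = U ⊔ K := by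
  apply le_antisymm
  · intro m hm
    obtain ⟨u, hu, b, hb', rfl⟩ := F.D.compl.2.2.2 m hm.1
    have hKn : K ≤ normalizer (Cfsg.sigmaCore M : Set G) :=
      F.D.hall.1.trans (Cfsg.Agent.Lib.Helper28.BG12.le_normalizer_sigmaCore M)
    rw [← SetLike.mem_coe, coe_mul_of_left_le_normalizer_right K _ hKn, Set.mem_mul] at hb'
    obtain ⟨k, hk, y, hy, rfl⟩ := hb'
    have hk' : k ∈ K := hk
    have hy' : y ∈ Cfsg.sigmaCore M := hy
    have hyH : y ∈ H := by
      have h1 : y = k⁻¹ * (u⁻¹ * (u * (k * y))) := by group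
      rw [h1]
      exact H.mul_mem (H.inv_mem (F.hKH hk')) (H.mul_mem (H.inv_mem (F.hUH hu)) hm.2)
    have hyC : y ∈ centralizer (U : Set G) := by
      rw [mem_centralizer_iff]
      intro v hv
      have hv' : v ∈ U := hv
      have h1 : y * v * y⁻¹ * v⁻¹ ∈ Cfsg.sigmaCore M := by
        have h2 : v * y⁻¹ * v⁻¹ ∈ Cfsg.sigmaCore M :=
          (mem_normalizer_iff.mp (Cfsg.Agent.Lib.Helper28.BG12.le_normalizer_sigmaCore M
            (F.D.compl.1 hv')) _).mp (inv_mem hy')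
        have := mul_mem hy' h2
        rwa [← mul_assoc, ← mul_assoc] at this
      have h2 : y * v * y⁻¹ * v⁻¹ ∈ Cfsg.sigmaCore H := by
        have h3 : y * v * y⁻¹ ∈ Cfsg.sigmaCore H :=
          (mem_normalizer_iff.mp (Cfsg.Agent.Lib.Helper28.BG12.le_normalizer_sigmaCore H hyH)
            _).mp (hb hv')
        exact mul_mem h3 (inv_mem (hb hv'))
      have h3 : y * v * y⁻¹ * v⁻¹ ∈ Cfsg.sigmaCore H ⊓ Cfsg.sigmaCore M := mem_inf.mpr ⟨h2, h1⟩
      rw [F.inf_M hG, mem_bot] at h3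
      calc v * y = (y * v * y⁻¹ * v⁻¹)⁻¹ * (y * v) := by group
        _ = y * v := by rw [h3, inv_one, one_mul]
    have hy1 : y ∈ Cfsg.sigmaCore M ⊓ centralizer (U : Set G) := mem_inf.mpr ⟨hy', hyC⟩
    rw [F.hCU, mem_bot] at hy1
    rw [hy1, mul_one]
    exact mul_mem (mem_sup_left hu) (mem_sup_right hk')
  · exact sup_le (le_inf F.D.compl.1 F.hUH) (le_inf F.D.hall.1 F.hKH)

end Cfsg.Agent.Lib.Helper31.BG1435
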