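import Cfsg.Agent.Lib.Helper31.BG1435.Defs
import Cfsg.Agent.Lib.Helper31.BG1435.BASIC

set_option autoImplicit false
set_option linter.unusedVariables false

/-! Ladder BG1435, rung CD. -/

namespace Cfsg.Agent.Lib.Helper31.BG1435

open Subgroup Cfsg.Agent.Lib.Helper30

universe u

variable {G : Type u} [Group G] [Finite G]

variable {M K U Ms H : Subgroup G} {p : ℕ}

/-- Normalizers grow in nilpotent groups. -/
theorem cd_lt_inf_normalizer {D R : Subgroup G} (hnil : Group.IsNilpotent ↥R)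
    (hDR : D < R) : D < R ⊓ normalizer (D : Set G) := by
  have hlt : D.subgroupOf R < ⊤ := by
    rw [lt_top_iff_ne_top]
    intro htop
    exact hDR.ne (le_antisymm hDR.le (subgroupOf_eq_top.mp htop))
  obtain ⟨n, hn1, hn2⟩ := SetLike.exists_of_lt
    ((Group.normalizerCondition_of_isNilpotent (G := ↥R)) (D.subgroupOf R) hlt)
  rw [← subgroupOf_normalizer_eq hDR.le, mem_subgroupOf] at hn1
  refine lt_of_le_of_ne (le_inf hDR.le le_normalizer) ?_
  intro h
  apply hn2
  rw [mem_subgroupOf, h]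
  exact ⟨n.2, hn1⟩

theorem claim_d (hG : Cfsg.IsMinSimpleOddOrder G) (F : Facts M K U Ms H p)
    (hb : U ≤ Cfsg.sigmaCore H) (hc : M ⊓ H = U ⊔ K)
    (hnil : Group.IsNilpotent (Cfsg.sigmaCore H)) : ¬ H ⊓ normalizer (U : Set G) ≤ M := by
  intro hle
  have hSH := Cfsg.Agent.Lib.Helper28.BG12.sigmaCore_le H
  have h1 : Cfsg.sigmaCore H ⊓ normalizer (U : Set G) ≤ U := by
    intro x hx
    have hxM : x ∈ M := hle (mem_inf.mpr ⟨hSH hx.1, hx.2⟩)
    have hx2 : x ∈ U ⊔ K := hc ▸ mem_inf.mpr ⟨hxM, hSH hx.1⟩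
    rw [← SetLike.mem_coe, coe_mul_of_right_le_normalizer_left U K F.D.normal, Set.mem_mul] at hx2
    obtain ⟨u, hu, k, hk, rfl⟩ := hx2
    have hu' : u ∈ U := hu
    have hk' : k ∈ K := hk
    have hkS : k ∈ Cfsg.sigmaCore H := by
      have h2 : k = u⁻¹ * (u * k) := by group
      rw [h2]
      exact mul_mem (inv_mem (hb hu')) hx.1
    have hk1 : k ∈ K ⊓ Cfsg.sigmaCore H := mem_inf.mpr ⟨hk', hkS⟩
    rw [F.K_inf hG, mem_bot] at hk1
    rw [hk1, mul_one]
    exact hu'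
  have hU : U = Cfsg.sigmaCore H := by
    by_contra hne
    exact absurd (cd_lt_inf_normalizer hnil (lt_of_le_of_ne hb hne)) (not_lt_of_ge h1)
  have hHM : H ≤ M := by
    intro h hh
    apply hle
    refine mem_inf.mpr ⟨hh, ?_⟩
    rw [hU]
    exact Cfsg.Agent.Lib.Helper28.BG12.le_normalizer_sigmaCore H hh
  apply F.hnM 1
  rw [cj_one]
  rcases F.hH.le_iff.mp hHM with h | h
  · exact absurd h F.hM.1
  · exact h.symm

end Cfsg.Agent.Lib.Helper31.BG1435
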