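import Cfsg.Agent.Lib.Helper31.BG1435.Defs
import Cfsg.Agent.Lib.Helper28.Cores

set_option autoImplicit false
set_option linter.unusedVariables false

/-! Ladder BG1435, rung CEF. -/

namespace Cfsg.Agent.Lib.Helper31.BG1435

open Subgroup Cfsg.Agent.Lib.Helper30

universe u

variable {G : Type u} [Group G] [Finite G]

variable {M K U Ms H : Subgroup G} {p : ℕ}

theorem claim_ef (hG : Cfsg.IsMinSimpleOddOrder G) (F : Facts M K U Ms H p)
    {E : Subgroup G} (hE : Cfsg.IsComplIn E (Cfsg.sigmaCore H) H) (hKE : K ≤ E)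
    (hB : MainB K Ms E p) (hint : Cfsg.sigmaCore H ⊓ Ms = ⊥) :
    K ≤ Cfsg.fittingOf (H ⊓ Ms) ∧ Cfsg.IsComplIn (H ⊓ Ms) (Cfsg.sigmaCore H) H := by
  have : Fact p.Prime := ⟨F.hp⟩
  obtain ⟨B, hBp, hKB, hBE, hEN, hNB⟩ := hB
  have hEMs : E ≤ Ms := hEN.trans hNB
  have hEq : H ⊓ Ms = E := by
    apply le_antisymm
    · intro h hh
      obtain ⟨e, he, y, hy, rfl⟩ := hE.2.2.2 h hh.1
      have hyMs : y ∈ Ms := by
        have h1 : y = e⁻¹ * (e * y) := by group
        rw [h1]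
        exact Ms.mul_mem (Ms.inv_mem (hEMs he)) hh.2
      have hy1 : y ∈ Cfsg.sigmaCore H ⊓ Ms := mem_inf.mpr ⟨hy, hyMs⟩
      rw [hint, mem_bot] at hy1
      rw [hy1, mul_one]
      exact he
    · exact le_inf hE.1 hEMs
  rw [hEq]
  refine ⟨?_, hE⟩
  have hn : (B.subgroupOf E).Normal := (normal_subgroupOf_iff_le_normalizer hBE).mpr hEN
  have hp' : IsPGroup p (B.subgroupOf E) := hBp.comap_subtype
  have h1 : B.subgroupOf E ≤ Cfsg.fittingSubgroup E :=
    Cfsg.Agent.Lib.Helper28.le_fitting hn hp'.isNilpotent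
  have h2 := Subgroup.map_mono (f := E.subtype) h1
  rw [map_subgroupOf_eq_of_le hBE] at h2
  exact hKB.trans h2

end Cfsg.Agent.Lib.Helper31.BG1435
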