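import Cfsg.Agent.Lib.Helper31.BG1435.Defs

/-!
B-G, statement S1435: steps (1), (2), `H` is not conjugate to `M` or to `M*`.
-/

set_option autoImplicit false
set_option linter.unusedVariables false

namespace Cfsg.Agent.Lib.Helper31.BG1435

open Subgroup Cfsg.Agent.Lib.Helper30

universe u

variable {G : Type u} [Group G] [Finite G]

variable {M K U Ms H : Subgroup G} {p : ℕ}

/-- (1). -/
theorem stage1 (hG : Cfsg.IsMinSimpleOddOrder G) (hM : IsCoatom M)
    {r : ℕ} [Fact r.Prime] (hrM : r ∉ Cfsg.sigma M) {R : Subgroup G} (hR1 : R ≠ ⊥)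
    (hR : IsSylowIn r R M) (hNR : normalizer (R : Set G) ≤ H) (g : G) : H ≠ cj g M := by
  intro e
  have hRH : R ≤ H := le_normalizer.trans hNR
  have hc : Nat.card H = Nat.card M := by rw [e, card_cj]
  have h1 : R.relIndex H = R.relIndex M := by
    have a := card_eq_card_mul_relIndex hRH
    have b := card_eq_card_mul_relIndex hR.le
    rw [hc, b] at a
    exact (Nat.eq_of_mul_eq_mul_left Nat.card_pos a).symm
  have hS : IsSylowIn r R H := ⟨hRH, hR.isPGroup, by rw [h1]; exact hR.not_dvd⟩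
  have h2 := Cfsg.Agent.Lib.Helper68.mem_sigma_of_normalizer_le hS hR1 hNR
  rw [e, Cfsg.Agent.Lib.Helper24.BG14.sigma_cj] at h2
  exact hrM h2

/-- (2). -/
theorem stage2 (hG : Cfsg.IsMinSimpleOddOrder G) (T : Tx G) (hM : IsCoatom M)
    (hKU : Cfsg.IsSigmaDecomposition M K U) (hK1 : K ≠ ⊥) (hU1 : U ≠ ⊥) (hMs : IsCoatom Ms)
    (hKst : K = Cfsg.sigmaCore Ms ⊓
      centralizer ((Cfsg.sigmaCore M ⊓ centralizer (K : Set G) : Subgroup G) : Set G))
    (hKstH : Cfsg.IsPiHallOf (Cfsg.kappa Ms) (Cfsg.sigmaCore M ⊓ centralizer (K : Set G)) Ms)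
    (hUH : U ≤ H) (hKH : K ≤ H) (g : G) : H ≠ cj g Ms := by
  intro e
  have hKs1 : Cfsg.sigmaCore M ⊓ centralizer (K : Set G) ≠ ⊥ :=
    (T.t54 M hM K hKU.cyclic hKU.hall).1
  have h31 := (T.t31 Ms hMs _ hKstH hKs1).1
  rw [← hKst] at h31
  have hg : g ∈ Ms := by
    by_contra hg
    have h1 := h31 g hg
    have h2 : K ≤ cj g Ms := by rw [← e]; exact hKH
    rw [inf_eq_left.mpr h2] at h1
    exact hK1 h1
  rw [cj_eq_of_mem hg] at e
  have h68 := (T.t68 M hM K U hKU hK1 Ms hMs hKst hKstH).1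
  have h1 : U ≤ K ⊔ Cfsg.sigmaCore M := by
    have h2 : U ≤ M ⊓ Ms := le_inf hKU.compl.1 (e ▸ hUH)
    rw [h68] at h2
    exact h2.trans (sup_le_sup_left inf_le_left K)
  apply hU1
  rw [eq_bot_iff, ← hKU.compl.2.2.1]
  exact le_inf le_rfl h1

end Cfsg.Agent.Lib.Helper31.BG1435
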