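import Cfsg.Agent.Lib.Helper31.BG1435.ST0
import Cfsg.Agent.Lib.Helper31.BG1435.ST12

/-!
B-G, statement S1435: the structure `Facts` (outcome of steps (0)-(3)).
-/

set_option autoImplicit false

namespace Cfsg.Agent.Lib.Helper31.BG1435

open Subgroup Cfsg.Agent.Lib.Helper30

universe u

variable {G : Type u} [Group G] [Finite G]

variable {M K U Ms H : Subgroup G} {p : ℕ}

theorem facts_of (hG : Cfsg.IsMinSimpleOddOrder G) (T : Tx G) (hM : IsCoatom M)
    (hKU : Cfsg.IsSigmaDecomposition M K U) (hK1 : K ≠ ⊥) (hU1 : U ≠ ⊥) (hMs : IsCoatom Ms)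
    (hKst : K = Cfsg.sigmaCore Ms ⊓
      centralizer ((Cfsg.sigmaCore M ⊓ centralizer (K : Set G) : Subgroup G) : Set G))
    (hKstH : Cfsg.IsPiHallOf (Cfsg.kappa Ms) (Cfsg.sigmaCore M ⊓ centralizer (K : Set G)) Ms)
    (r : ℕ) [Fact r.Prime] (hr : r ∣ Nat.card U) (R : Sylow r U) (hH : IsCoatom H)
    (hNR : normalizer (((R : Subgroup U).map U.subtype : Subgroup G) : Set G) ≤ H) :
    Facts M K U Ms H (Nat.card K) := by
  have hrp : r.Prime := Fact.out
  obtain ⟨hUH, hKH, hRM, hCU⟩ := stage0 hG T hM hKU hK1 r hr R hNR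
  obtain ⟨hab, hreg⟩ := Cfsg.Agent.Lib.Helper28.BG12.decomp_good hG T.t15
    (fun M hM K hK hK1 => T.t30 M hM K hK hK1) hM hKU hK1
  obtain ⟨hp, hTI, hF⟩ := T.t72 M hM K U hKU hK1 hU1
  have hrσ : r ∉ Cfsg.sigma M := Cfsg.Agent.Lib.Helper28.BG12.not_sigma_of_decomp hG hM hKU hrp hr
  have hrM : r ∣ Nat.card M := hr.trans (card_dvd_of_le hKU.compl.1)
  have hR1 : (R : Subgroup U).map U.subtype ≠ ⊥ := by
    intro h
    apply hRM.not_dvd
    rw [h, relIndex_bot_left]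
    exact hrM
  have hnM : ∀ g : G, H ≠ cj g M := stage1 hG hM hrσ hR1 hRM hNR
  have hnMs : ∀ g : G, H ≠ cj g Ms := stage2 hG T hM hKU hK1 hU1 hMs hKst hKstH hUH hKH
  have hKs1 : Cfsg.sigmaCore M ⊓ centralizer (K : Set G) ≠ ⊥ :=
    (T.t54 M hM K hKU.cyclic hKU.hall).1
  have hKMs : K ≤ Cfsg.sigmaCore Ms := by
    have h : Cfsg.sigmaCore Ms ⊓
      centralizer ((Cfsg.sigmaCore M ⊓ centralizer (K : Set G) : Subgroup G) : Set G) ≤
        Cfsg.sigmaCore Ms := inf_le_left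
    rwa [← hKst] at h
  have h67 := T.t67 M hM K U hKU hK1 Ms hMs hKst hKstH
  have hKtop : K ≠ ⊤ := by
    intro h
    apply hM.1
    rw [eq_top_iff, ← h]
    exact hKU.hall.1
  have h31 := (T.t31 Ms hMs _ hKstH hKs1).2.2.2
  rw [← hKst] at h31
  refine
    { hM := hM
      hMs := hMs
      hH := hH
      D := hKU
      hp := hp
      hKp := rfl
      hU1 := hU1
      hUab := hab
      hreg := hreg
      hpU := ?_
      hUH := hUH
      hKH := hKH
      hCU := hCU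
      hnM := hnM
      hnMs := hnMs
      hκ := ?_
      hσM := ?_
      hσMs := ?_
      hpMs := ?_
      hKMs := hKMs
      hCK := (h67.2 K le_rfl hp).1
      hNK := ?_
      hY := h31
      hKsH := hKstH
      hCX := fun X hX hXp => (h67.1 X hX hXp).1
      hTI := hTI
      hF := hF }
  · intro h
    exact Cfsg.Agent.Lib.Helper28.BG12.not_kappa_of_decomp hKU hp h
      (hKU.hall.2.1 _ hp dvd_rfl)
  · by_contra hne
    obtain ⟨g, hg | hg⟩ := (T.t69 M hM K U hKU hK1 Ms hMs hKst hKstH).2 H hH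
      (Set.nonempty_iff_ne_empty.mpr hne)
    · exact hnM g hg
    · exact hnMs g hg
  · intro q hqH hqM
    obtain ⟨g, hg⟩ := T.t78.2 M H hM hH ⟨q, hqM, hqH⟩
    exact hnM g hg
  · intro q hqH hqM
    obtain ⟨g, hg⟩ := T.t78.2 Ms H hMs hH ⟨q, hqM, hqH⟩
    exact hnMs g hg
  · exact (Cfsg.Agent.Lib.Helper28.BG12.sigmaCore_hall hG hMs).2.1 _ hp (card_dvd_of_le hKMs)
  · obtain ⟨L, hL, hNL⟩ := Cfsg.Agent.Lib.Helper2.exists_coatom_ge (normalizer_ne_top hG hK1 hKtop)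
    have := (h67.2 K le_rfl hp).2 L hL ((centralizer_le_normalizer' K).trans hNL)
    rw [← this]
    exact hNL

end Cfsg.Agent.Lib.Helper31.BG1435
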