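import Cfsg.Agent.Lib.Helper31.BG1435.W
import Cfsg.Agent.Lib.Helper31.BG1435.FROB
import Cfsg.Agent.Lib.Helper69.BG36C0

/-!
B-G, statement S1435: the main claim in case `p ∈ τ₁(H)`.
-/

set_option autoImplicit false

namespace Cfsg.Agent.Lib.Helper31.BG1435

open Subgroup Cfsg.Agent.Lib.Helper30

universe u

variable {G : Type u} [Group G] [Finite G]

variable {M K U Ms H : Subgroup G} {p : ℕ}

theorem main_tau1 (hG : Cfsg.IsMinSimpleOddOrder G) (T : Tx G) (F : Facts M K U Ms H p)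
    (hp1 : p ∈ Cfsg.tau1 H) {E : Subgroup G} (hE : Cfsg.IsComplIn E (Cfsg.sigmaCore H) H)
    (hKE : K ≤ E) : MainB K Ms E p := by
  have hpp : Fact p.Prime := ⟨F.hp⟩
  have hEEc : IsMulCommutative ↥⁅E, E⁆ := (T.t20 H F.hH E hE).2.1
  have hVEE : ⁅E, K⁆ ≤ ⁅E, E⁆ := commutator_mono le_rfl hKE
  have hEE : ⁅E, E⁆ ≤ E := commutator_le_of_le_normalizer le_normalizer
  have hVHH : ⁅E, K⁆ ≤ ⁅H, H⁆ := commutator_mono hE.1 (hKE.trans hE.1)
  have hpV : ¬ p ∣ Nat.card ↥⁅E, K⁆ := fun h => hp1.2.2.2.1 (h.trans (card_dvd_of_le hVHH))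
  have hKV : K ≤ normalizer ((⁅E, K⁆ : Subgroup G) : Set G) :=
    le_normalizer_commutator (hKE.trans le_normalizer) le_normalizer
  have hWV : ⁅⁅E, K⁆, K⁆ ≤ ⁅E, K⁆ := commutator_le_of_le_normalizer hKV
  have hVc : IsMulCommutative ↥⁅E, K⁆ :=
    ⟨⟨fun a b => Subtype.ext
      (Cfsg.Agent.Lib.Helper28.BG12.comm_of_isMulCommutative hEEc (hVEE a.2) (hVEE b.2))⟩⟩
  have hcop : (Nat.card ↥⁅E, K⁆).Coprime (Nat.card K) := by
    rw [F.hKp]
    exact ((Nat.Prime.coprime_iff_not_dvd F.hp).mpr hpV).symm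
  have hW : ⁅⁅E, K⁆, K⁆ = ⊥ := by
    apply tau1_W hG T F hp1 hE hKE (hWV.trans (hVEE.trans hEE))
      (le_normalizer_commutator hKV le_normalizer)
    · intro a ha b hb
      exact Cfsg.Agent.Lib.Helper28.BG12.comm_of_isMulCommutative hEEc (hVEE (hWV ha))
        (hVEE (hWV hb))
    · exact fun h => hpV (h.trans (card_dvd_of_le hWV))
    · exact Cfsg.Agent.Lib.Helper69.commutator_inf_centralizer_eq_bot _ K hVc hKV hcop
  have hEC : E ≤ centralizer (K : Set G) :=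
    le_centralizer_of_comm_comm F.hKp le_rfl hpV F.hp hW
  exact ⟨K, IsPGroup.of_card (n := 1) (by rw [F.hKp, pow_one]), le_rfl, hKE,
    hEC.trans (centralizer_le_normalizer' K), F.hNK⟩

end Cfsg.Agent.Lib.Helper31.BG1435
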