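import Cfsg.Agent.Lib.Helper31.BG1435.Defs

set_option autoImplicit false
set_option linter.unusedVariables false

/-! Ladder BG1435, rung T2. -/

namespace Cfsg.Agent.Lib.Helper31.BG1435

open Subgroup Cfsg.Agent.Lib.Helper30

universe u

variable {G : Type u} [Group G] [Finite G]

variable {M K U Ms H : Subgroup G} {p : ℕ}

theorem t2_not_isCyclic {t : ℕ} (ht : t.Prime) {D : Subgroup G}
    (hD : Cfsg.IsElementaryAbelian t D) (hc : Nat.card D = t ^ 2) : ¬ IsCyclic D := by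
  intro hcyc
  obtain ⟨g, hg⟩ := hcyc.exists_generator
  have h1 : Nat.card D = orderOf g := (orderOf_eq_card_of_forall_mem_zpowers hg).symm
  have h2 : orderOf g ∣ t := orderOf_dvd_of_pow_eq_one (Subtype.ext (hD.2 g.1 g.2))
  rw [← h1, hc] at h2
  have h3 := Nat.le_of_dvd ht.pos h2
  nlinarith [ht.two_le]

theorem main_tau2 (hG : Cfsg.IsMinSimpleOddOrder G) (T : Tx G) (F : Facts M K U Ms H p)
    (hp2 : p ∈ Cfsg.tau2 H) {E : Subgroup G} (hE : Cfsg.IsComplIn E (Cfsg.sigmaCore H) H)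
    (hKE : K ≤ E) : MainB K Ms E p ∧ Cfsg.sigmaCore H ⊓ Ms = ⊥ ∧
      Group.IsNilpotent (Cfsg.sigmaCore H) := by
  have : Fact p.Prime := ⟨F.hp⟩
  obtain ⟨B, hBE, hB, hBc⟩ := Cfsg.Agent.Lib.Helper28.BG12.exists_ea_sq_in_compl hG F.hH hE hp2
  obtain ⟨⟨hEN, hX⟩, -, -⟩ := T.t18 H F.hH E hE p hp2 B ⟨hBE, hB, hBc⟩
  have hKB : K ≤ B := hX K hKE F.hKp
  have hBp : IsPGroup p B := Cfsg.Agent.Lib.Helper2.ea_isPGroup hB
  have hBC : B ≤ centralizer (K : Set G) := by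
    intro b hb
    rw [mem_centralizer_iff]
    intro k hk
    exact Cfsg.Agent.Lib.Helper28.BG12.comm_of_isMulCommutative hB.1 (hKB hk) hb
  have hBMs : B ≤ Ms := hBC.trans F.hCK
  obtain ⟨E', hE', -⟩ := Cfsg.Agent.Lib.Helper28.BG12.exists_compl_ge hG F.hMs (X := ⊥) bot_le
    (by
      intro q hq hqd
      rw [card_bot] at hqd
      exact absurd (Nat.dvd_one.mp hqd) hq.one_lt.ne')
  have hNB : normalizer (B : Set G) ≤ Ms :=
    (T.t20 Ms F.hMs E' hE').2.2.1 p B F.hpMs hBp hBMs (t2_not_isCyclic F.hp hB hBc)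
  obtain ⟨hnil, -, -, -, h5, -⟩ := T.t17 H F.hH p hp2 B ⟨hBE.trans hE.1, hB, hBc⟩
  refine ⟨⟨B, hBp, hKB, hBE, hEN, hNB⟩, ?_, hnil⟩
  apply h5 Ms F.hMs ?_ hBMs
  intro h
  apply F.hnMs 1
  rw [cj_one, h]

end Cfsg.Agent.Lib.Helper31.BG1435
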