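import Cfsg.Agent.Lib.Helper31.BG1435.Defs
import Cfsg.Agent.Lib.Helper31.BG134B

set_option autoImplicit false
set_option linter.unusedVariables false

/-! Ladder BG1435, rung T3. -/

namespace Cfsg.Agent.Lib.Helper31.BG1435

open Subgroup Cfsg.Agent.Lib.Helper30

universe u

variable {G : Type u} [Group G] [Finite G]

variable {M K U Ms H : Subgroup G} {p : ℕ}

theorem main_tau3 (hG : Cfsg.IsMinSimpleOddOrder G) (T : Tx G) (F : Facts M K U Ms H p)
    (hp3 : p ∈ Cfsg.tau3 H) {E : Subgroup G} (hE : Cfsg.IsComplIn E (Cfsg.sigmaCore H) H)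
    (hKE : K ≤ E) : MainB K Ms E p := by
  have : Fact p.Prime := ⟨F.hp⟩
  have hEtop : E ≠ ⊤ := fun h => F.hH.1 (top_le_iff.mp (h ▸ hE.1))
  obtain ⟨E3, hE3, -, hKE3⟩ := Cfsg.Agent.Lib.Helper66.exists_invariant_isPiHallOf_ge
    (π := Cfsg.tau3 H) (A := ⊥) (G := E) (U := K) bot_le (by simp)
    (solvable_of_ne_top hG hEtop) hKE bot_le (by
      intro q hq hqd
      rw [F.hKp] at hqd
      rwa [(Nat.prime_dvd_prime_iff_eq hq F.hp).mp hqd])
  obtain ⟨hcyc, -, hEN⟩ := (T.t15 H F.hH E hE).2.2 E3 hE3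
  refine ⟨K, IsPGroup.of_card (n := 1) (by rw [F.hKp, pow_one]), le_rfl, hKE, ?_, F.hNK⟩
  intro e he
  apply mem_normalizer_of_cj_eq
  apply Cfsg.Agent.Lib.Helper31.BG134.eq_of_card_eq_of_le_isCyclic hcyc ?_ hKE3 (card_cj e K)
  have := cj_mono e hKE3
  rwa [cj_eq_of_mem_normalizer (hEN he)] at this

end Cfsg.Agent.Lib.Helper31.BG1435
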