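import Cfsg.Agent.Lib.Helper31.BG1435.Defs
import Cfsg.Agent.Lib.Helper31.BG1435.BASIC
import Cfsg.Agent.Lib.Helper31.BG1435.T1
import Cfsg.Agent.Lib.Helper31.BG1435.T2
import Cfsg.Agent.Lib.Helper31.BG1435.T3
import Cfsg.Agent.Lib.Helper31.BG1435.CB
import Cfsg.Agent.Lib.Helper31.BG1435.CC
import Cfsg.Agent.Lib.Helper31.BG1435.CD
import Cfsg.Agent.Lib.Helper31.BG1435.CEF
import Cfsg.Agent.Lib.Helper31.BG1435.FACTS
import Cfsg.Agent.Lib.Helper31.BG134B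

/-!
S1435 from the texts: assembly of the rungs.
-/

set_option autoImplicit false

namespace Cfsg.Agent.Lib.Helper31.BG1435

open Subgroup Cfsg.Agent.Lib.Helper30

universe u

variable {G : Type u} [Group G] [Finite G]

variable {M K U Ms H : Subgroup G} {p : ℕ}

/-- (5) + (4) + nilpotence. -/
theorem main (hG : Cfsg.IsMinSimpleOddOrder G) (T : Tx G) (F : Facts M K U Ms H p)
    {E : Subgroup G} (hE : Cfsg.IsComplIn E (Cfsg.sigmaCore H) H)
    (hKE : K ≤ E) : MainB K Ms E p ∧ Cfsg.sigmaCore H ⊓ Ms = ⊥ ∧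
      Group.IsNilpotent (Cfsg.sigmaCore H) := by
  have hpH : p ∣ Nat.card H := by
    rw [← F.hKp]
    exact card_dvd_of_le F.hKH
  have hrk : Cfsg.PRankLE p 1 H → Cfsg.sigmaCore H ⊓ Ms = ⊥ ∧
      Group.IsNilpotent (Cfsg.sigmaCore H) := by
    intro h1
    refine ⟨?_, F.nilp_of_rank_one hG h1⟩
    rw [eq_bot_iff, ← F.cent_bot hG h1]
    exact le_inf inf_le_left (F.D_le hG)
  rcases Cfsg.Agent.Lib.Helper31.BG134.tau_cases hG F.hH F.hp hpH with h | h | h | h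
  · exact absurd h F.p_not_sigma
  · exact ⟨main_tau1 hG T F h hE hKE, hrk h.2.2.2.2⟩
  · exact main_tau2 hG T F h hE hKE
  · exact ⟨main_tau3 hG T F h hE hKE, hrk h.2.2.2⟩

theorem S1435_of (hG : Cfsg.IsMinSimpleOddOrder G) (T : Tx G)
    (M : Subgroup G) (hM : IsCoatom M) (K U : Subgroup G) (hKU : Cfsg.IsSigmaDecomposition M K U) (hK1 : K ≠ ⊥) (hU1 : U ≠ ⊥) (Mstar : Subgroup G) (hMstar : IsCoatom Mstar)
    (hKst : K = Cfsg.sigmaCore Mstar ⊓ Subgroup.centralizer ((Cfsg.sigmaCore M ⊓ Subgroup.centralizer (K : Set G)) : Set G))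
    (hKstH : Cfsg.IsPiHallOf (Cfsg.kappa Mstar) (Cfsg.sigmaCore M ⊓ Subgroup.centralizer (K : Set G)) Mstar)
    (r : ℕ) [Fact r.Prime] (hr : r ∣ Nat.card U) (R : Sylow r U) (H : Subgroup G) (hH : IsCoatom H)
    (hNR : Subgroup.normalizer (((R : Subgroup U).map U.subtype : Subgroup G) : Set G) ≤ H) :
    Cfsg.kappa H = ∅ ∧ U ≤ Cfsg.sigmaCore H ∧ M ⊓ H = U ⊔ K ∧ ¬ H ⊓ Subgroup.normalizer (U : Set G) ≤ M ∧
      K ≤ Cfsg.fittingOf (H ⊓ Mstar) ∧ Cfsg.IsComplIn (H ⊓ Mstar) (Cfsg.sigmaCore H) H := by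
  have F := facts_of hG T hM hKU hK1 hU1 hMstar hKst hKstH r hr R hH hNR
  obtain ⟨E, hE, hKE⟩ := Cfsg.Agent.Lib.Helper28.BG12.exists_compl_ge hG hH F.hKH (fun q hq hqd => by
    have : q = Nat.card K := (Nat.prime_dvd_prime_iff_eq hq F.hp).mp hqd
    rw [this]; exact F.p_not_sigma)
  obtain ⟨hB, hint, hnil⟩ := main hG T F hE hKE
  have hb := claim_b hG F (fun E hE hKE => (main hG T F hE hKE).1)
  have hc := claim_c hG F hb
  exact ⟨F.hκ, hb, hc, claim_d hG F hb hc hnil, claim_ef hG F hE hKE hB hint⟩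

end Cfsg.Agent.Lib.Helper31.BG1435
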