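import Cfsg.Agent.Lib.Helper60.BG14Texts
import Cfsg.Agent.Lib.Helper28.BG16b
import Cfsg.Agent.Lib.Helper24.BG14A

/-!
B-G, maximal subgroups of type P2: the normalizer of a Sylow subgroup of `U` (statement S1435).
Definitions: the bundle `Tx` of texts used as hypotheses and the structure `Facts` recording the
outcome of the first steps (0)-(3) of the proof.
-/

set_option autoImplicit false

namespace Cfsg.Agent.Lib.Helper31.BG1435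

open Subgroup Cfsg.Agent.Lib.Helper30

universe u

variable {G : Type u} [Group G]

/-- the texts used in the proof of S1435. -/
structure Tx (G : Type u) [Group G] : Prop where
  t15 : Cfsg.Agent.Lib.Helper28.BG12.T1415 G
  t17 : Cfsg.Agent.Lib.Helper28.BG12.T1417 G
  t18 : Cfsg.Agent.Lib.Helper28.BG12.T1418 G
  t20 : Cfsg.Agent.Lib.Helper60.BG14.T1420 G
  t23 : Cfsg.Agent.Lib.Helper60.BG14.T1423 G
  t29 : Cfsg.Agent.Lib.Helper60.BG14.T1429 G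
  t30 : Cfsg.Agent.Lib.Helper60.BG14.T1430 G
  t31 : Cfsg.Agent.Lib.Helper60.BG14.T1431 G
  t32 : Cfsg.Agent.Lib.Helper60.BG14.T1432 G
  t54 : Cfsg.Agent.Lib.Helper60.BG14.T1354 G
  t67 : Cfsg.Agent.Lib.Helper60.BG14.T1367 G
  t68 : Cfsg.Agent.Lib.Helper60.BG14.T1368 G
  t69 : Cfsg.Agent.Lib.Helper60.BG14.T1369 G
  t72 : Cfsg.Agent.Lib.Helper60.BG14.T1372 G
  t78 : Cfsg.Agent.Lib.Helper60.BG14.T1378 G

/-- the situation after steps (0)-(3): `M = K U M_σ` of type P2, `#K = p`, `Ms = M*`,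
`H` a maximal subgroup containing `U K`, not conjugate to `M` or `M*`. -/
structure Facts (M K U Ms H : Subgroup G) (p : ℕ) : Prop where
  hM : IsCoatom M
  hMs : IsCoatom Ms
  hH : IsCoatom H
  D : Cfsg.IsSigmaDecomposition M K U
  hp : p.Prime
  hKp : Nat.card K = p
  hU1 : U ≠ ⊥
  hUab : ∀ a ∈ U, ∀ b ∈ U, a * b = b * a
  hreg : ∀ k ∈ K, k ≠ 1 → U ⊓ centralizer ({k} : Set G) = ⊥
  hpU : ¬ p ∣ Nat.card U
  hUH : U ≤ H
  hKH : K ≤ H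
  hCU : Cfsg.sigmaCore M ⊓ centralizer (U : Set G) = ⊥
  hnM : ∀ g : G, H ≠ cj g M
  hnMs : ∀ g : G, H ≠ cj g Ms
  hκ : Cfsg.kappa H = ∅
  hσM : ∀ q : ℕ, q ∈ Cfsg.sigma H → q ∉ Cfsg.sigma M
  hσMs : ∀ q : ℕ, q ∈ Cfsg.sigma H → q ∉ Cfsg.sigma Ms
  hpMs : p ∈ Cfsg.sigma Ms
  hKMs : K ≤ Cfsg.sigmaCore Ms
  hCK : centralizer (K : Set G) ≤ Ms
  hNK : normalizer (K : Set G) ≤ Ms
  hY : ∀ Y : Subgroup G, (∀ q : ℕ, q.Prime → q ∣ Nat.card Y → q ∈ Cfsg.sigma Ms) → Y ⊓ K ≠ ⊥ →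
    Y ≤ Cfsg.sigmaCore Ms
  hKsH : Cfsg.IsPiHallOf (Cfsg.kappa Ms) (Cfsg.sigmaCore M ⊓ centralizer (K : Set G)) Ms
  hCX : ∀ X : Subgroup G, X ≤ Cfsg.sigmaCore M ⊓ centralizer (K : Set G) → (Nat.card X).Prime →
    centralizer (X : Set G) ≤ M
  hTI : Cfsg.IsTISubset (Cfsg.fittingOf M : Set G)
  hF : Cfsg.sigmaCore M ≤ Cfsg.fittingOf M

/-- the conclusion of the main claim (5): a normal `p`-subgroup `B ≥ K` of `E` with
`N(B) ≤ M*`. -/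
def MainB (K Ms E : Subgroup G) (p : ℕ) : Prop :=
  ∃ B : Subgroup G, IsPGroup p B ∧ K ≤ B ∧ B ≤ E ∧ E ≤ normalizer (B : Set G) ∧
    normalizer (B : Set G) ≤ Ms

/-- the data produced in case `p ∈ τ₁(H)` from a nontrivial `K`-invariant abelian `p'`-subgroup
`W` of `E` with `C_W(K) = 1`: `s ∈ τ₂(H)`, `A ≤ E` elementary abelian of order `s ^ 2`,
`B0 = W ∩ A`, `z ∈ C_A(K)`. -/
structure WData (K H E : Subgroup G) (s : ℕ) (A B0 : Subgroup G) (z : G) : Prop where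
  hs : s.Prime
  hτ : s ∈ Cfsg.tau2 H
  hAE : A ≤ E
  hA : Cfsg.IsElementaryAbelian s A
  hAc : Nat.card A = s ^ 2
  hB0A : B0 ≤ A
  hB01 : B0 ≠ ⊥
  hKB0 : K ≤ normalizer (B0 : Set G)
  hB0K : B0 ≤ ⁅B0, K⁆
  hB0H : Cfsg.sigmaCore H ≤ centralizer (B0 : Set G)
  hzA : z ∈ A
  hzK : z ∈ centralizer (K : Set G)
  hz1 : z ≠ 1

end Cfsg.Agent.Lib.Helper31.BG1435
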