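import Cfsg.Agent.Lib.Helper31.BG1435.Defs

/-!
B-G, statement S1435: step (0), `U K ≤ H` and `R` is a Sylow subgroup of `M`.
-/

set_option autoImplicit false

namespace Cfsg.Agent.Lib.Helper31.BG1435

open Subgroup Cfsg.Agent.Lib.Helper30

universe u

variable {G : Type u} [Group G] [Finite G]

variable {M K U Ms H : Subgroup G} {p : ℕ}

/-- (0): `U K ≤ H`, and `R` is a Sylow subgroup of `M`. -/
theorem stage0 (hG : Cfsg.IsMinSimpleOddOrder G) (T : Tx G) (hM : IsCoatom M)
    (hKU : Cfsg.IsSigmaDecomposition M K U) (hK1 : K ≠ ⊥)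
    (r : ℕ) [Fact r.Prime] (hr : r ∣ Nat.card U) (R : Sylow r U)
    (hNR : normalizer (((R : Subgroup U).map U.subtype : Subgroup G) : Set G) ≤ H) :
    U ≤ H ∧ K ≤ H ∧ IsSylowIn r ((R : Subgroup U).map U.subtype) M ∧
      Cfsg.sigmaCore M ⊓ centralizer (U : Set G) = ⊥ := by
  have hrp : r.Prime := Fact.out
  obtain ⟨hab, -⟩ := Cfsg.Agent.Lib.Helper28.BG12.decomp_good hG T.t15
    (fun M hM K hK hK1 => T.t30 M hM K hK hK1) hM hKU hK1
  have hRU : IsSylowIn r ((R : Subgroup U).map U.subtype) U := isSylowIn_of_sylow R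
  generalize (R : Subgroup U).map U.subtype = R' at hNR hRU ⊢
  have hrσ : r ∉ Cfsg.sigma M := Cfsg.Agent.Lib.Helper28.BG12.not_sigma_of_decomp hG hM hKU hrp hr
  have hrκ : r ∉ Cfsg.kappa M := Cfsg.Agent.Lib.Helper28.BG12.not_kappa_of_decomp hKU hrp hr
  have hcjU : ∀ u ∈ U, cj u R' = R' := by
    intro u hu
    ext x
    rw [mem_cj]
    constructor
    · intro hx
      have hxU : x ∈ U := by
        have h1 : u * (u⁻¹ * x * u) * u⁻¹ ∈ U := mul_mem (mul_mem hu (hRU.le hx)) (inv_mem hu)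
        have h2 : u * (u⁻¹ * x * u) * u⁻¹ = x := by group
        rwa [h2] at h1
      have h3 : u⁻¹ * x * u = x := by
        rw [mul_assoc, hab x hxU u hu, ← mul_assoc, inv_mul_cancel, one_mul]
      rwa [h3] at hx
    · intro hx
      have h3 : u⁻¹ * x * u = x := by
        rw [mul_assoc, hab x (hRU.le hx) u hu, ← mul_assoc, inv_mul_cancel, one_mul]
      rwa [h3]
  have hUN : U ≤ normalizer (R' : Set G) := fun u hu => mem_normalizer_of_cj_eq (hcjU u hu)
  have hKN : K ≤ normalizer (R' : Set G) := by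
    intro k hk
    apply mem_normalizer_of_cj_eq
    have h1 : IsSylowIn r (cj k R') U := by
      have := hRU.cj k
      rwa [cj_eq_of_mem_normalizer (hKU.normal hk)] at this
    obtain ⟨u, hu, e⟩ := hRU.conj h1
    rw [e, hcjU u hu]
  have hRM : IsSylowIn r R' M := by
    refine ⟨hRU.le.trans hKU.compl.1, hRU.isPGroup, ?_⟩
    rw [← relIndex_mul_relIndex R' U M hRU.le hKU.compl.1]
    intro h
    rcases hrp.dvd_mul.mp h with h | h
    · exact hRU.not_dvd h
    · rw [← Cfsg.Agent.Lib.Helper28.BG12.card_compl' hKU.compl] at h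
      rcases (Cfsg.Agent.Lib.Helper28.BG12.isPiHallOf_K_sup hG hM hKU.hall).2.1 r hrp h with h | h
      · exact hrκ h
      · exact hrσ h
  refine ⟨hUN.trans hNR, hKN.trans hNR, hRM, ?_⟩
  obtain ⟨S, hS⟩ := hRM.exists_sylow
  have hrM : r ∣ Nat.card M := hr.trans (card_dvd_of_le hKU.compl.1)
  have h29 := (T.t29 M hM (fun h => hrκ (h r hrp hrM hrσ)) r hrM
    (fun h => h.elim hrσ hrκ) S).2.1
  rw [eq_bot_iff, ← h29]
  apply inf_le_inf_left
  apply centralizer_le
  intro x hx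
  have h1 : closure {x : G | x ∈ (S : Subgroup M).map M.subtype ∧ x ^ r = 1} ≤ R' := by
    rw [closure_le]
    rintro y ⟨hy, -⟩
    rw [hS] at hy
    exact hy
  exact hRU.le (h1 hx)

end Cfsg.Agent.Lib.Helper31.BG1435
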