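import Cfsg.Agent.Lib.Helper31.BG1435.Defs
import Cfsg.Agent.Lib.Helper31.BG1435.FROB
import Cfsg.Agent.Lib.Helper31.BG1435.BASIC

set_option autoImplicit false
set_option linter.unusedVariables false
set_option linter.unusedSectionVars false

/-! Ladder BG1435, rung W1 (helper29). -/

namespace Cfsg.Agent.Lib.Helper31.BG1435

open Subgroup Cfsg.Agent.Lib.Helper30

universe u

variable {G : Type u} [Group G] [Finite G]

variable {M K U Ms H : Subgroup G} {p : ℕ}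

theorem w1_coprime (hG : Cfsg.IsMinSimpleOddOrder G) (hH : IsCoatom H) {E : Subgroup G}
    (hE : Cfsg.IsComplIn E (Cfsg.sigmaCore H) H) {X : Subgroup G} (hX : X ≤ E) :
    (Nat.card (Cfsg.sigmaCore H)).Coprime (Nat.card X) := by
  apply Nat.coprime_of_dvd
  intro k hk h1 h2
  exact Cfsg.Agent.Lib.Helper28.BG12.not_mem_sigma_of_dvd_compl hG hH hE hk
    (h2.trans (Subgroup.card_dvd_of_le hX))
    ((Cfsg.Agent.Lib.Helper28.BG12.sigmaCore_hall hG hH).2.1 k hk h1)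

theorem w1_nilpotent {W : Subgroup G} (hWab : ∀ a ∈ W, ∀ b ∈ W, a * b = b * a) :
    Group.IsNilpotent W := by
  have : IsMulCommutative W := ⟨⟨fun a b => Subtype.ext (hWab a a.2 b b.2)⟩⟩
  let _ : CommGroup W := { (inferInstance : Group W) with mul_comm := fun a b => mul_comm' a b }
  exact CommGroup.isNilpotent

/-- `H_σ` centralizes every `K`-invariant abelian subgroup `W` of `E` with `C_W(K) = 1`. -/
theorem w1_frob (hG : Cfsg.IsMinSimpleOddOrder G) (F : Facts M K U Ms H p)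
    (h1 : Cfsg.PRankLE p 1 H) {E : Subgroup G} (hE : Cfsg.IsComplIn E (Cfsg.sigmaCore H) H)
    (hKE : K ≤ E) {W : Subgroup G} (hWE : W ≤ E) (hKW : K ≤ normalizer (W : Set G))
    (hWab : ∀ a ∈ W, ∀ b ∈ W, a * b = b * a)
    (hCW : W ⊓ centralizer (K : Set G) = ⊥) :
    Cfsg.sigmaCore H ≤ centralizer (W : Set G) := by
  have hN := Cfsg.Agent.Lib.Helper28.BG12.le_normalizer_sigmaCore H
  exact frob hKW (w1_nilpotent hWab) hCW (by rw [F.hKp]; exact F.hp)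
    ((hWE.trans hE.1).trans hN) ((hKE.trans hE.1).trans hN)
    (isSolvable_of_le (Cfsg.Agent.Lib.Helper28.BG12.sigmaCore_le H)
      (solvable_of_ne_top hG F.hH.1))
    (w1_coprime hG F.hH hE (sup_le hWE hKE)) (F.cent_bot hG h1)

/-- W1. -/
theorem exists_wdata (hG : Cfsg.IsMinSimpleOddOrder G) (T : Tx G) (F : Facts M K U Ms H p)
    (hp1 : p ∈ Cfsg.tau1 H) {E : Subgroup G} (hE : Cfsg.IsComplIn E (Cfsg.sigmaCore H) H)
    (hKE : K ≤ E) {W : Subgroup G} (hWE : W ≤ E) (hKW : K ≤ normalizer (W : Set G))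
    (hWab : ∀ a ∈ W, ∀ b ∈ W, a * b = b * a) (hpW : ¬ p ∣ Nat.card W)
    (hCW : W ⊓ centralizer (K : Set G) = ⊥) (hW1 : W ≠ ⊥) :
    ∃ (s : ℕ) (A B0 : Subgroup G) (z : G), WData K H E s A B0 z := by
  have h1 : Cfsg.PRankLE p 1 H := hp1.2.2.2.2
  have hHs1 := Cfsg.Agent.Lib.Helper28.BG12.sigmaCore_ne_bot hG F.hH
  have hHW := w1_frob hG F h1 hE hKE hWE hKW hWab hCW
  have hτ2 := Cfsg.Agent.Lib.Helper28.BG12.tau2_of_not_kappa hG F.hH (hWE.trans hE.1)
    (fun r hr hrd => Cfsg.Agent.Lib.Helper28.BG12.not_mem_sigma_of_dvd_compl hG F.hH hE hr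
      (hrd.trans (Subgroup.card_dvd_of_le hWE)))
    (fun r hr hrd => by rw [F.hκ]; exact Set.notMem_empty r)
    (by rw [inf_eq_left.2 hHW]; exact hHs1)
  have hcW : Nat.card W ≠ 1 := by
    intro h
    exact hW1 (Subgroup.card_eq_one.mp h)
  obtain ⟨s, hs, hsW⟩ := Nat.exists_prime_and_dvd hcW
  have : Fact s.Prime := ⟨hs⟩
  have hτ := hτ2 s hs hsW
  obtain ⟨x, hx⟩ := exists_prime_orderOf_dvd_card' (G := W) s hsW
  obtain ⟨A, hAE, hA, hAc⟩ := Cfsg.Agent.Lib.Helper28.BG12.exists_ea_sq_in_compl hG F.hH hE hτ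
  obtain ⟨⟨hEA, hXA⟩, -, -⟩ := T.t18 H F.hH E hE s hτ A ⟨hAE, hA, hAc⟩
  have hxo : orderOf (x : G) = s := by rw [Subgroup.orderOf_coe, hx]
  have hxA : (x : G) ∈ A :=
    hXA (zpowers (x : G)) (zpowers_le.2 (hWE x.2)) (by rw [Nat.card_zpowers, hxo])
      (mem_zpowers _)
  have hx1 : (x : G) ≠ 1 := by
    intro h
    rw [h, orderOf_one] at hxo
    exact hs.one_lt.ne hxo
  have hKA : K ≤ normalizer (A : Set G) := hKE.trans hEA
  have hKB : K ≤ normalizer ((W ⊓ A : Subgroup G) : Set G) := le_normalizer_inf hKW hKA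
  have hAab : ∀ a ∈ A, ∀ b ∈ A, a * b = b * a := fun a ha b hb =>
    Cfsg.Agent.Lib.Helper28.BG12.comm_of_isMulCommutative hA.1 ha hb
  have hzex : A ⊓ centralizer (K : Set G) ≠ ⊥ := by
    intro hb
    have h2 := w1_frob hG F h1 hE hKE hAE hKA hAab hb
    have h3 := (T.t17 H F.hH s hτ A ⟨hAE.trans hE.1, hA, hAc⟩).2.2.2.1
    rw [inf_eq_left.2 h2] at h3
    exact hHs1 h3
  obtain ⟨⟨z, hz⟩, hz1⟩ := Subgroup.ne_bot_iff_exists_ne_one.mp hzex
  have hcop : (Nat.card K).Coprime (Nat.card (W ⊓ A : Subgroup G)) := by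
    rw [F.hKp, Nat.Prime.coprime_iff_not_dvd F.hp]
    intro h
    exact hpW (h.trans (Subgroup.card_dvd_of_le inf_le_left))
  have hcs := commutator_sup_centralizer hKB hcop
    (Or.inr (isSolvable_of_le ((inf_le_left.trans hWE).trans hE.1) (solvable_of_ne_top hG F.hH.1)))
  have hcb : (W ⊓ A) ⊓ centralizer (K : Set G) = ⊥ := by
    rw [eq_bot_iff, ← hCW]
    exact inf_le_inf_right _ inf_le_left
  rw [hcb, sup_bot_eq] at hcs
  refine ⟨s, A, W ⊓ A, z, ⟨hs, hτ, hAE, hA, hAc, inf_le_right, ?_, hKB, hcs.ge, ?_, hz.1, hz.2,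
    fun h => hz1 (Subtype.ext h)⟩⟩
  · intro h
    have : (x : G) ∈ W ⊓ A := ⟨x.2, hxA⟩
    rw [h, mem_bot] at this
    exact hx1 this
  · exact hHW.trans (centralizer_le (inf_le_left : W ⊓ A ≤ W))

end Cfsg.Agent.Lib.Helper31.BG1435
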