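import Cfsg.Agent.Lib.Helper31.BG1435.Defs
import Cfsg.Agent.Lib.Helper31.BG1435.BASIC

set_option autoImplicit false
set_option linter.unusedVariables false
set_option linter.unusedSectionVars false

/-! Ladder BG1435, rung W2 (helper29). -/

namespace Cfsg.Agent.Lib.Helper31.BG1435

open Subgroup Cfsg.Agent.Lib.Helper30

universe u

variable {G : Type u} [Group G] [Finite G]

variable {M K U Ms H : Subgroup G} {p : ℕ}

theorem w2_prime_eq {E : Subgroup G} {s : ℕ} {A B0 : Subgroup G} {z : G}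
    (w : WData K H E s A B0 z) {q : ℕ} (hq : q.Prime) (h : q ∣ Nat.card B0) : q = s := by
  have h1 : q ∣ s ^ 2 := by
    rw [← w.hAc]; exact h.trans (Subgroup.card_dvd_of_le w.hB0A)
  exact (Nat.prime_dvd_prime_iff_eq hq w.hs).mp (hq.dvd_of_dvd_pow h1)

theorem w2_exists_order {E : Subgroup G} {s : ℕ} {A B0 : Subgroup G} {z : G}
    (w : WData K H E s A B0 z) : ∃ x ∈ B0, orderOf x = s := by
  have hc : Nat.card B0 ≠ 1 := fun h => w.hB01 (Subgroup.card_eq_one.mp h)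
  obtain ⟨q, hq, hqd⟩ := Nat.exists_prime_and_dvd hc
  have e := w2_prime_eq w hq hqd
  subst e
  have : Fact q.Prime := ⟨hq⟩
  obtain ⟨x, hx⟩ := exists_prime_orderOf_dvd_card' (G := B0) q hqd
  exact ⟨x, x.2, by rw [Subgroup.orderOf_coe, hx]⟩

/-- W2. -/
theorem wdata_not_sigma (hG : Cfsg.IsMinSimpleOddOrder G) (T : Tx G) (F : Facts M K U Ms H p)
    (hp1 : p ∈ Cfsg.tau1 H) {E : Subgroup G} (hE : Cfsg.IsComplIn E (Cfsg.sigmaCore H) H)
    (hKE : K ≤ E) {s : ℕ} {A B0 : Subgroup G} {z : G} (w : WData K H E s A B0 z) :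
    s ∉ Cfsg.sigma Ms := by
  intro hs
  have : Fact s.Prime := ⟨w.hs⟩
  have hK1 : K ≠ ⊥ := by
    intro h
    have h1 := F.hKp
    rw [h, Subgroup.card_bot] at h1
    exact F.hp.one_lt.ne h1
  have hY : B0 ⊔ K ≤ Cfsg.sigmaCore Ms := by
    apply F.hY
    · intro q hq hqd
      rcases Cfsg.Agent.Lib.Helper28.BG12.prime_dvd_card_sup w.hKB0 hq hqd with h | h
      · rw [w2_prime_eq w hq h]; exact hs
      · rw [F.hKp] at h
        rw [(Nat.prime_dvd_prime_iff_eq hq F.hp).mp h]; exact F.hpMs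
    · rw [inf_eq_right.2 le_sup_right]; exact hK1
  have hB : B0 ≤ ⁅Cfsg.sigmaCore Ms, Cfsg.sigmaCore Ms⁆ :=
    w.hB0K.trans (commutator_mono (le_sup_left.trans hY) (le_sup_right.trans hY))
  obtain ⟨x, hx, hxo⟩ := w2_exists_order w
  have hXB : zpowers x ≤ B0 := zpowers_le.2 hx
  obtain ⟨P⟩ : Nonempty (Sylow s ↥(Cfsg.sigmaCore Ms)) := inferInstance
  have h23 := (T.t23 Ms F.hMs s hs (zpowers x)
    ((hXB.trans (le_sup_left.trans hY)).trans (Cfsg.Agent.Lib.Helper28.BG12.sigmaCore_le Ms))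
    (by rw [Nat.card_zpowers, hxo]) P (Or.inr (hXB.trans hB))).1.1
  have h1 : Cfsg.sigmaCore H ≤ Ms := (w.hB0H.trans (centralizer_le hXB)).trans h23
  have h2 : Cfsg.sigmaCore H ≤ Cfsg.sigmaCore H ⊓ centralizer (K : Set G) :=
    le_inf le_rfl ((le_inf le_rfl h1).trans (F.D_le hG))
  rw [F.cent_bot hG hp1.2.2.2.2, le_bot_iff] at h2
  exact Cfsg.Agent.Lib.Helper28.BG12.sigmaCore_ne_bot hG F.hH h2

end Cfsg.Agent.Lib.Helper31.BG1435
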