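import Cfsg.Agent.Lib.Helper31.BG1435.Defs
import Cfsg.Agent.Lib.Helper31.BG1435.BASIC
import Cfsg.Agent.Lib.Helper31.BG1435.W2
import Cfsg.Agent.Lib.Helper30.Transitivity3
import Cfsg.Agent.Lib.Helper30.BGUniq
import Cfsg.Agent.Lib.Helper28.Cores
import Cfsg.Agent.Lib.Helper28.Rel
import Cfsg.Agent.Lib.Helper66.PiHall

set_option autoImplicit false
set_option linter.unusedVariables false
set_option linter.unusedSectionVars false

/-! Ladder BG1435, rung W3 (helper29). -/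

namespace Cfsg.Agent.Lib.Helper31.BG1435

open Subgroup Cfsg.Agent.Lib.Helper30

universe u

variable {G : Type u} [Group G] [Finite G]

variable {M K U Ms H : Subgroup G} {p : ℕ}

theorem w3_normalizer_fittingOf (hG : Cfsg.IsMinSimpleOddOrder G) (F : Facts M K U Ms H p) :
    normalizer ((Cfsg.fittingOf M : Subgroup G) : Set G) = M := by
  apply normalizer_eq_of_coatom hG F.hM
  · intro h
    have h1 := F.hF
    rw [h, le_bot_iff] at h1
    exact Cfsg.Agent.Lib.Helper28.BG12.sigmaCore_ne_bot hG F.hM h1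
  · exact Subgroup.map_subtype_le _
  · exact Cfsg.Agent.Lib.Helper28.le_normalizer_map_subtype Cfsg.Agent.Lib.Helper28.fitting_normal

/-- W3. -/
theorem wdata_sigma (hG : Cfsg.IsMinSimpleOddOrder G) (T : Tx G) (F : Facts M K U Ms H p)
    {E : Subgroup G} (hE : Cfsg.IsComplIn E (Cfsg.sigmaCore H) H)
    (hKE : K ≤ E) {s : ℕ} {A B0 : Subgroup G} {z : G} (w : WData K H E s A B0 z) :
    s ∈ Cfsg.sigma Ms := by
  by_contra hs
  have : Fact s.Prime := ⟨w.hs⟩
  have hzo : orderOf z = s := orderOf_eq_prime (w.hA.2 z w.hzA) w.hz1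
  have hzMs : z ∈ Ms := F.hCK w.hzK
  obtain ⟨k, hkK, hko, hk1, hKk⟩ := F.basic_exists_gen
  have hAab : ∀ a ∈ A, ∀ b ∈ A, a * b = b * a := fun a ha b hb =>
    Cfsg.Agent.Lib.Helper28.BG12.comm_of_isMulCommutative w.hA.1 ha hb
  have hzk : z ∈ Ms ⊓ centralizer ({k} : Set G) :=
    ⟨hzMs, centralizer_le (by simpa using hkK) w.hzK⟩
  have hsd : s ∣ Nat.card B0 := by
    obtain ⟨x, hx, hxo⟩ := w2_exists_order w
    rw [← hxo]
    have := orderOf_dvd_natCard (⟨x, hx⟩ : B0)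
    rwa [Subgroup.orderOf_mk] at this
  rcases T.t32 Ms F.hMs k (F.hKMs hkK) hk1 z hzk w.hz1 (fun q hq hqd => by
    rw [hzo] at hqd
    rw [(Nat.prime_dvd_prime_iff_eq hq w.hs).mp hqd]; exact hs) with ⟨h1, -⟩ | ⟨-, -, h2, -⟩
  · -- `s ∈ κ(M*)`
    have hsκ : s ∈ Cfsg.kappa Ms := h1 s w.hs (by rw [hzo])
    obtain ⟨Y, hY, -, hzY⟩ := Cfsg.Agent.Lib.Helper66.exists_invariant_isPiHallOf_ge
      (π := Cfsg.kappa Ms) (A := (⊥ : Subgroup G)) (G := Ms) (U := zpowers z) bot_le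
      (by rw [Subgroup.card_bot]; exact Nat.coprime_one_left _)
      (solvable_of_ne_top hG F.hMs.1) (zpowers_le.2 hzMs) bot_le
      (fun q hq hqd => by
        rw [Nat.card_zpowers, hzo] at hqd
        rw [(Nat.prime_dvd_prime_iff_eq hq w.hs).mp hqd]; exact hsκ)
    obtain ⟨m, hm, e⟩ := Cfsg.Agent.Lib.Helper66.isPiHallOf_exists_conj
      (solvable_of_ne_top hG F.hMs.1) hY F.hKsH
    have hXK : cj m (zpowers z) ≤ Cfsg.sigmaCore M ⊓ centralizer (K : Set G) :=
      e ▸ cj_mono m hzY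
    have hXc : Nat.card (cj m (zpowers z)) = s := by rw [card_cj, Nat.card_zpowers, hzo]
    have hC := F.hCX (cj m (zpowers z)) hXK (by rw [hXc]; exact w.hs)
    have hAz : A ≤ centralizer ((zpowers z : Subgroup G) : Set G) := by
      rw [le_centralizer_iff, zpowers_le, mem_centralizer_iff]
      intro a ha
      exact hAab a ha z w.hzA
    have hAM : cj m A ≤ M := by
      refine le_trans ?_ hC
      rw [centralizer_cj]
      exact cj_mono m hAz
    have hsM : s ∈ Cfsg.sigma M := by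
      apply (Cfsg.Agent.Lib.Helper28.BG12.sigmaCore_hall hG F.hM).2.1 s w.hs
      rw [← hXc]
      exact Subgroup.card_dvd_of_le (hXK.trans inf_le_left)
    have hB0p : IsPGroup s B0 := by
      intro b
      exact ⟨1, by
        rw [pow_one]
        exact Subtype.ext (w.hA.2 b (w.hB0A b.2))⟩
    have hBσ : cj m B0 ≤ Cfsg.sigmaCore M :=
      Cfsg.Agent.Lib.Helper28.BG12.isPGroup_le_sigmaCore hG F.hM hsM
        ((cj_mono m w.hB0A).trans hAM) (isPGroup_cj m hB0p)
    obtain ⟨⟨b, hb⟩, hb1'⟩ := Subgroup.ne_bot_iff_exists_ne_one.mp w.hB01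
    have hb1 : b ≠ 1 := fun h => hb1' (Subtype.ext h)
    have hwF : m * b * m⁻¹ ∈ Cfsg.fittingOf M := F.hF (hBσ (conj_mem_cj hb))
    have hw1 : m * b * m⁻¹ ≠ 1 := by
      intro h
      apply hb1
      have : b = m⁻¹ * (m * b * m⁻¹) * m := by group
      rw [this, h]; group
    have hHM : Cfsg.sigmaCore H ≤ cj m⁻¹ M := by
      intro y hy
      rw [mem_cj, inv_inv]
      by_contra hn
      rw [← w3_normalizer_fittingOf hG F] at hn
      apply hw1
      apply F.hTI (m * y * m⁻¹) hn (m * b * m⁻¹) hwF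
      have hyb : b * y = y * b := (mem_centralizer_iff.mp (w.hB0H hy)) b hb
      have e1 : m * y * m⁻¹ * (m * b * m⁻¹) * (m * y * m⁻¹)⁻¹ = m * (y * b * y⁻¹) * m⁻¹ := by
        group
      rw [e1, ← hyb, mul_inv_cancel_right]
      exact hwF
    have h5 := (T.t17 H F.hH s w.hτ A ⟨w.hAE.trans hE.1, w.hA, w.hAc⟩).2.2.2.2.1 (cj m⁻¹ M)
      (Cfsg.Agent.Lib.Helper28.BG12.isCoatom_cj F.hM m⁻¹) (F.hnM m⁻¹).symm (cj_le_iff.mp hAM)
    rw [inf_eq_left.2 hHM] at h5
    exact Cfsg.Agent.Lib.Helper28.BG12.sigmaCore_ne_bot hG F.hH h5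
  · -- `C(z) ≤ M*`
    have hB0Ms : B0 ≤ Ms := by
      intro b hb
      apply h2
      rw [mem_centralizer_singleton_iff]
      exact hAab _ (w.hB0A hb) _ w.hzA
    have h3 : ⁅B0, K⁆ ≤ Cfsg.sigmaCore Ms := by
      rw [commutator_comm]
      exact (commutator_mono F.hKMs le_rfl).trans (commutator_le_of_le_normalizer
        (hB0Ms.trans (Cfsg.Agent.Lib.Helper28.BG12.le_normalizer_sigmaCore Ms)))
    apply hs
    exact (Cfsg.Agent.Lib.Helper28.BG12.sigmaCore_hall hG F.hMs).2.1 s w.hs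
      (hsd.trans (Subgroup.card_dvd_of_le (w.hB0K.trans h3)))

end Cfsg.Agent.Lib.Helper31.BG1435
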