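import Cfsg.Agent.Lib.Helper31.BG1435.Defs
import Cfsg.Agent.Lib.Helper31.BG1435.W1
import Cfsg.Agent.Lib.Helper31.BG1435.W2
import Cfsg.Agent.Lib.Helper31.BG1435.W3

set_option autoImplicit false

namespace Cfsg.Agent.Lib.Helper31.BG1435

open Subgroup Cfsg.Agent.Lib.Helper30

universe u

variable {G : Type u} [Group G] [Finite G]

variable {M K U Ms H : Subgroup G} {p : ℕ}

/-- the contradiction in case tau1. -/
theorem tau1_W (hG : Cfsg.IsMinSimpleOddOrder G) (T : Tx G) (F : Facts M K U Ms H p)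
    (hp1 : p ∈ Cfsg.tau1 H) {E : Subgroup G} (hE : Cfsg.IsComplIn E (Cfsg.sigmaCore H) H)
    (hKE : K ≤ E) {W : Subgroup G} (hWE : W ≤ E) (hKW : K ≤ normalizer (W : Set G))
    (hWab : ∀ a ∈ W, ∀ b ∈ W, a * b = b * a) (hpW : ¬ p ∣ Nat.card W)
    (hCW : W ⊓ centralizer (K : Set G) = ⊥) : W = ⊥ := by
  by_contra hW1
  obtain ⟨s, A, B0, z, w⟩ := exists_wdata hG T F hp1 hE hKE hWE hKW hWab hpW hCW hW1
  exact wdata_not_sigma hG T F hp1 hE hKE w (wdata_sigma hG T F hE hKE w)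

end Cfsg.Agent.Lib.Helper31.BG1435
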